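import Cfsg.Agent.Lib.SolvSF.Top
import Cfsg.Agent.Lib.SolvSF.Cores

/-! At least three primes: common tools. -/

set_option autoImplicit false
set_option linter.unusedSectionVars false
set_option linter.style.haveILetI false

namespace CfsgLib.SolvSF.Multi

open Cfsg Subgroup CfsgLib.Signalizer

universe u
variable {G : Type u} [Group G] [Finite G] {p : ℕ} [Fact p.Prime] {A : Subgroup G} {θ : G → Subgroup G}

/-- `M v` is maximal and contains every `W r` with `r ≠ v`. -/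
structure Fam (p : ℕ) (A : Subgroup G) (θ : G → Subgroup G) (M : ℕ → Subgroup G) : Prop where
  mm : ∀ v, Pr A θ v → MM p A θ (M v)
  le : ∀ v, Pr A θ v → ∀ r : ℕ, r.Prime → r ≠ v → W p A θ r ≤ M v

theorem exists_fam (h : Ctx p A θ) : ∃ M, Fam p A θ M := by
  classical
  refine ⟨fun v => if hv : Pr A θ v then (h.omitPrime v hv).choose else ⊥, fun v hv => ?_, fun v hv r hr hrv => ?_⟩
  · simp only [dif_pos hv]; exact (h.omitPrime v hv).choose_spec.1
  · simp only [dif_pos hv]; exact (h.omitPrime v hv).choose_spec.2 r hr hrv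

/-! ### Normalisers -/

theorem le_centralizer_symm {X Y : Subgroup G} (hc : X ≤ centralizer (Y : Set G)) :
    Y ≤ centralizer (X : Set G) := fun y hy =>
  mem_centralizer_iff.mpr fun x hx => (mem_centralizer_iff.mp (hc hx) y hy).symm

theorem centralizer_le_normalizer' (Y : Subgroup G) : centralizer (Y : Set G) ≤ normalizer (Y : Set G) := by
  intro g hg
  refine mem_normalizer_iff.mpr fun y => ?_
  constructor
  · intro hy
    rw [← mem_centralizer_iff.mp hg y hy, mul_inv_cancel_right]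
    exact hy
  · intro hy
    have h1 := mem_centralizer_iff.mp hg _ hy
    have h2 : g * y * g⁻¹ = y := by
      calc g * y * g⁻¹ = g⁻¹ * (g * (g * y * g⁻¹)) := by group
        _ = g⁻¹ * ((g * y * g⁻¹) * g) := by rw [h1]
        _ = y := by group
    rwa [h2] at hy

theorem inf_normalizer_le (X Y : Subgroup G) :
    normalizer (X : Set G) ⊓ normalizer (Y : Set G) ≤ normalizer ((X ⊓ Y : Subgroup G) : Set G) :=
  fun _ hg => mem_normalizer_iff.mpr fun z => by
    simp only [mem_inf]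
    rw [mem_normalizer_iff.mp hg.1 z, mem_normalizer_iff.mp hg.2 z]

theorem le_normalizer_inf {B X Y : Subgroup G} (hX : B ≤ normalizer (X : Set G)) (hY : B ≤ normalizer (Y : Set G)) :
    B ≤ normalizer ((X ⊓ Y : Subgroup G) : Set G) := (le_inf hX hY).trans (inf_normalizer_le X Y)

theorem le_normalizer_inf_self {B X K : Subgroup G} (hX : B ≤ normalizer (X : Set G)) (hB : B ≤ K) :
    B ≤ normalizer ((X ⊓ K : Subgroup G) : Set G) := le_normalizer_inf hX (hB.trans le_normalizer)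

theorem le_normalizer_of_conj {B X : Subgroup G} (hc : ∀ b ∈ B, ∀ x ∈ X, b * x * b⁻¹ ∈ X) :
    B ≤ normalizer (X : Set G) := inv_to_normalizer hc

theorem le_normalizer_sup {B X Y : Subgroup G} (hX : B ≤ normalizer (X : Set G)) (hY : B ≤ normalizer (Y : Set G)) :
    B ≤ normalizer ((X ⊔ Y : Subgroup G) : Set G) := by
  refine le_normalizer_of_conj fun b hb z hz => ?_
  have h1 : X ⊔ Y ≤ (X ⊔ Y).comap (MulAut.conj b).toMonoidHom :=
    sup_le (fun x hx => mem_sup_left ((mem_normalizer_iff.mp (hX hb) x).mp hx))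
      (fun y hy => mem_sup_right ((mem_normalizer_iff.mp (hY hb) y).mp hy))
  exact h1 hz

theorem le_normalizer_centralizer' {B X : Subgroup G} (hX : B ≤ normalizer (X : Set G)) :
    B ≤ normalizer ((centralizer (X : Set G) : Subgroup G) : Set G) := by
  refine le_normalizer_of_conj fun b hb z hz => mem_centralizer_iff.mpr fun x hx => ?_
  have h1 := mem_centralizer_iff.mp hz _ ((mem_normalizer_iff''.mp (hX hb) x).mp hx)
  calc x * (b * z * b⁻¹) = b * (b⁻¹ * x * b * z) * b⁻¹ := by group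
    _ = b * (z * (b⁻¹ * x * b)) * b⁻¹ := by rw [h1]
    _ = b * z * b⁻¹ * x := by group

theorem O_char {q : ℕ} {B K : Subgroup G} (hB : B ≤ normalizer (K : Set G)) :
    B ≤ normalizer (O q K : Set G) :=
  (CfsgLib.le_normalizer_map_characteristic hB (pCore q ↥K)).1

theorem O_A (h : Ctx p A θ) {q : ℕ} {K : Subgroup G} (hK : MM p A θ K) : A ≤ normalizer (O q K : Set G) :=
  O_char (mem_normalizes hK.1)

theorem O_D {q : ℕ} {K : Subgroup G} (hK : MM p A θ K) : DD A θ ≤ normalizer (O q K : Set G) :=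
  hK.2.1.trans O_normal

theorem mem_of_le (h : Ctx p A θ) {X U : Subgroup G} (hX : Mem p A θ X) (hU : U ≤ X)
    (hA : A ≤ normalizer (U : Set G)) : Mem p A θ U := family_sub h.hθ hX hU hA

/-! ### Cores -/

/-- A `t`-subgroup inside a `q`-group is trivial. -/
theorem eq_bot_of_two {q t : ℕ} [Fact q.Prime] [Fact t.Prime] (hqt : q ≠ t) {X : Subgroup G}
    (hq : IsPGroup q X) (ht : IsPGroup t X) : X = ⊥ := by
  obtain ⟨i, hi⟩ := IsPGroup.iff_card.mp hq
  obtain ⟨j, hj⟩ := IsPGroup.iff_card.mp ht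
  refine Subgroup.eq_bot_of_card_eq _ (Nat.eq_one_of_dvd_coprimes (Nat.coprime_pow_primes i j Fact.out Fact.out hqt) ?_ ?_)
  · rw [hi]
  · rw [hj]

theorem O_eq_bot_of_le {q t : ℕ} (hq : q.Prime) (ht : t.Prime) (hqt : q ≠ t) {K L : Subgroup G}
    (hle : O t K ≤ O q L) : O t K = ⊥ := by
  haveI := Fact.mk hq
  haveI := Fact.mk ht
  exact eq_bot_of_two hqt ((O_isPGroup (K := L)).to_le hle) O_isPGroup

/-- Cores of different primes lying in each other's members centralise each other. -/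
theorem O_comm {s t : ℕ} (hs : s.Prime) (ht : t.Prime) (hst : s ≠ t) {K L : Subgroup G}
    (hK : O s K ≤ L) (hL : O t L ≤ K) : O s K ≤ centralizer (O t L : Set G) := by
  haveI := Fact.mk hs
  haveI := Fact.mk ht
  exact commute_of_normalize (O_coprime hst) (hK.trans O_normal) (hL.trans O_normal)

theorem O_le_M (h : Ctx p A θ) {M : ℕ → Subgroup G} (hf : Fam p A θ M) {t v : ℕ} (ht : t.Prime) (hv : Pr A θ v)
    (htv : t ≠ v) {L : Subgroup G} (hL : MM p A θ L) : O t L ≤ M v := by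
  haveI := Fact.mk ht
  exact (O_le_W h hL).trans (hf.le v hv t ht htv)

/-- A member with the single core `O_q` has no foreign core centralising it. -/
theorem single_bot (h : Ctx p A θ) {q t : ℕ} (hq : q.Prime) (ht : t.Prime) (hqt : q ≠ t) {K L : Subgroup G}
    (hK : MM p A θ K) (hs : ∀ r : ℕ, r.Prime → r ≠ q → O r K = ⊥) (hle : O t L ≤ K)
    (hc : O t L ≤ centralizer (O q K : Set G)) : O t L = ⊥ := by
  haveI := Fact.mk hq
  exact O_eq_bot_of_le hq ht hqt (le_O_of_single h hK.1 hs hle hc)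

theorem single_ne_bot (h : Ctx p A θ) {q : ℕ} {K : Subgroup G} (hK : MM p A θ K)
    (hs : ∀ r : ℕ, r.Prime → r ≠ q → O r K = ⊥) : O q K ≠ ⊥ := by
  obtain ⟨r, hr, -, hne⟩ := exists_O_ne_bot h hK
  by_cases e : r = q
  · exact e ▸ hne
  · exact absurd (hs r hr e) hne

/-- A `q`-member which, in each member, centralises every foreign core is qualified. -/
theorem qual_of (h : Ctx p A θ) {q : ℕ} (hq : q.Prime) {Y : Subgroup G} (hY : Mem p A θ Y) (hYq : IsPGroup q Y)
    (hn : ∀ K, MM p A θ K → ∀ t : ℕ, t.Prime → t ≠ q →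
      ∃ X : Subgroup G, Y ≤ X ∧ IsPGroup q X ∧ O t K ≤ normalizer (X : Set G)) :
    Qual p A θ q Y := by
  haveI := Fact.mk hq
  refine ⟨hY, fun K hK hO => eq_bot_of_centralizes h hK.1 inf_le_right (hYq.to_le inf_le_left) hO fun t ht htq => ?_⟩
  haveI := Fact.mk ht
  obtain ⟨X, hYX, hXq, hXn⟩ := hn K hK t ht htq
  refine le_trans (inf_le_inf_right K hYX) (commute_of_normalize ?_ (inf_le_right.trans O_normal)
    (le_normalizer_inf_self hXn O_le))
  obtain ⟨i, hi⟩ := IsPGroup.iff_card.mp (hXq.to_le (inf_le_left : X ⊓ K ≤ X))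
  obtain ⟨j, hj⟩ := IsPGroup.iff_card.mp (O_isPGroup (q := t) (K := K))
  rw [hi, hj]
  exact Nat.coprime_pow_primes i j hq ht htq.symm

/-! ### The stabiliser argument -/

/-- An element commuting with `g` all whose prime power parts do. -/
theorem mem_of_parts {d : G} {S : Subgroup G}
    (hS : ∀ r : ℕ, r.Prime → ∀ y ∈ zpowers d, (∃ i, orderOf y = r ^ i) → y ∈ S) : d ∈ S := by
  have h1 : orderOf d ∣ Nat.card (S ⊓ zpowers d : Subgroup G) := by
    refine (Nat.dvd_iff_prime_pow_dvd_dvd _ _).mpr fun r k hr hk => ?_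
    have hord : orderOf (d ^ (orderOf d / r ^ k)) = r ^ k := by
      rw [orderOf_pow' d (Nat.div_pos (Nat.le_of_dvd (orderOf_pos d) hk) (pow_pos hr.pos k)).ne',
        Nat.gcd_eq_right (Nat.div_dvd_of_dvd hk), Nat.div_div_self hk (orderOf_pos d).ne']
    rw [← hord]
    exact Subgroup.orderOf_dvd_natCard _ ⟨hS r hr _ (pow_mem (mem_zpowers d) _) ⟨k, hord⟩, pow_mem (mem_zpowers d) _⟩
  have h2 : S ⊓ zpowers d = zpowers d := Subgroup.eq_of_le_of_card_ge inf_le_right
    (by rw [Nat.card_zpowers]; exact Nat.le_of_dvd Nat.card_pos h1)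
  exact (h2.symm ▸ mem_zpowers d : d ∈ S ⊓ zpowers d).1

/-- A `v`-element centralising the foreign cores commutes with a `u`-element centralising the `v`-core. -/
theorem stab (h : Ctx p A θ) {K : Subgroup G} (hK : Mem p A θ K) {v u : ℕ} (hv : v.Prime) (hu : u.Prime)
    (huv : u ≠ v) {g x : G} (hg : g ∈ K) (hgv : ∃ n, orderOf g = v ^ n)
    (hgc : ∀ r : ℕ, r.Prime → r ≠ v → g ∈ centralizer (O r K : Set G)) (hx : x ∈ K)
    (hxu : ∃ n, orderOf x = u ^ n) (hxc : x ∈ centralizer (O v K : Set G)) : g * x = x * g := by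
  haveI := Fact.mk hv
  obtain ⟨n, hn⟩ := hgv
  obtain ⟨n', hn'⟩ := hxu
  set c := g * x * g⁻¹ * x⁻¹ with hc
  have hcK : c ∈ K := mul_mem (mul_mem (mul_mem hg hx) (inv_mem hg)) (inv_mem hx)
  -- `c` centralises every core
  have hcc : ∀ r : ℕ, r.Prime → c ∈ centralizer (O r K : Set G) := by
    intro r hr
    have hgn : g ∈ normalizer (O r K : Set G) := O_normal hg
    have hxn : x ∈ normalizer (O r K : Set G) := O_normal hx
    have hN := le_normalizer_centralizer' (le_refl (normalizer (O r K : Set G)))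
    by_cases hrv : r = v
    · subst hrv
      exact mul_mem ((mem_normalizer_iff.mp (hN hgn) x).mp hxc) (inv_mem hxc)
    · rw [hc, show g * x * g⁻¹ * x⁻¹ = g * (x * g⁻¹ * x⁻¹) by group]
      exact mul_mem (hgc r hr hrv) ((mem_normalizer_iff.mp (hN hxn) _).mp (inv_mem (hgc r hr hrv)))
  have hpart : ∀ r : ℕ, r.Prime → ∀ y ∈ zpowers c, (∃ i, orderOf y = r ^ i) → y ∈ O r K := by
    intro r hr y hy ⟨i, hi⟩
    haveI := Fact.mk hr
    refine le_O_of_centralizes h hK (X := zpowers y) (zpowers_le.mpr (zpowers_le.mpr hcK hy))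
      (IsPGroup.of_card (n := i) (by rw [Nat.card_zpowers, hi])) (fun s hs => zpowers_le.mpr ?_) (mem_zpowers y)
    exact zpowers_le.mpr (hcc s hs) hy
  -- `c` commutes with `g` modulo the `v`-core
  let π := QuotientGroup.mk' (pCore v ↥K)
  have hOmem : ∀ (z : K), (z : G) ∈ O v K → π z = 1 := by
    intro z hz
    obtain ⟨w, hw, hwz⟩ := hz
    rw [show z = w from Subtype.ext hwz.symm]
    exact (QuotientGroup.eq_one_iff w).mpr hw
  have hcg : Commute (π ⟨g, hg⟩) (π ⟨c, hcK⟩) := by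
    have hd : (⟨c, hcK⟩ : K) ∈ (centralizer ({π ⟨g, hg⟩} : Set (↥K ⧸ pCore v ↥K))).comap π := by
      refine mem_of_parts fun r hr y hy hi => ?_
      obtain ⟨k, hk⟩ := hy
      have hyc : (y : G) ∈ zpowers c := ⟨k, congrArg Subtype.val hk⟩
      have hyO := hpart r hr _ hyc (by obtain ⟨i, hi⟩ := hi; exact ⟨i, by rw [Subgroup.orderOf_coe, hi]⟩)
      rw [mem_comap, mem_centralizer_singleton_iff]
      by_cases hrv : r = v
      · rw [hOmem y (hrv ▸ hyO), one_mul, mul_one]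
      · rw [← map_mul, ← map_mul]
        exact congrArg π (Subtype.ext (mem_centralizer_iff.mp (hgc r hr hrv) _ hyO))
    exact (mem_centralizer_singleton_iff.mp (mem_comap.mp hd)).symm
  have hstep : π ⟨g, hg⟩ * π ⟨x, hx⟩ * (π ⟨g, hg⟩)⁻¹ = π ⟨c, hcK⟩ * π ⟨x, hx⟩ := by
    rw [← map_inv, ← map_mul, ← map_mul, ← map_mul]
    exact congrArg π (Subtype.ext (show g * x * g⁻¹ = c * x by rw [hc]; group))
  have hiter : ∀ j : ℕ, (π ⟨g, hg⟩) ^ j * π ⟨x, hx⟩ * ((π ⟨g, hg⟩) ^ j)⁻¹ = (π ⟨c, hcK⟩) ^ j * π ⟨x, hx⟩ := by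
    intro j
    induction j with
    | zero => simp
    | succ j ih =>
      calc (π ⟨g, hg⟩) ^ (j + 1) * π ⟨x, hx⟩ * ((π ⟨g, hg⟩) ^ (j + 1))⁻¹
          = π ⟨g, hg⟩ * ((π ⟨g, hg⟩) ^ j * π ⟨x, hx⟩ * ((π ⟨g, hg⟩) ^ j)⁻¹) * (π ⟨g, hg⟩)⁻¹ := by
            rw [pow_succ']; group
        _ = (π ⟨g, hg⟩ * (π ⟨c, hcK⟩) ^ j) * π ⟨x, hx⟩ * (π ⟨g, hg⟩)⁻¹ := by rw [ih]; group
        _ = (π ⟨c, hcK⟩) ^ j * (π ⟨g, hg⟩ * π ⟨x, hx⟩ * (π ⟨g, hg⟩)⁻¹) := by rw [(hcg.pow_right j).eq]; group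
        _ = _ := by rw [hstep, pow_succ, mul_assoc]
  have hcv : c ^ v ^ n ∈ O v K := by
    have h1 := hiter (v ^ n)
    rw [← map_pow, show (⟨g, hg⟩ : K) ^ v ^ n = 1 from Subtype.ext (show g ^ v ^ n = 1 by rw [← hn, pow_orderOf_eq_one]),
      map_one, one_mul, inv_one, mul_one] at h1
    have h2 : π ((⟨c, hcK⟩ : K) ^ v ^ n) = 1 := by
      rw [map_pow]
      exact mul_eq_right.mp h1.symm
    exact ⟨_, (QuotientGroup.eq_one_iff _).mp h2, rfl⟩
  obtain ⟨j, hj⟩ := (O_isPGroup (q := v) (K := K)) ⟨_, hcv⟩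
  have hcv' : c ^ (v ^ n * v ^ j) = 1 := by rw [pow_mul]; exact congrArg Subtype.val hj
  obtain ⟨i, -, hi⟩ := (Nat.dvd_prime_pow hv).mp (pow_add v n j ▸ orderOf_dvd_of_pow_eq_one hcv')
  have hcO : c ∈ O v K := hpart v hv c (mem_zpowers c) ⟨i, hi⟩
  have hxcomm : Commute c x := mem_centralizer_iff.mp hxc c hcO
  have h4 : (c * x) ^ u ^ n' = 1 := by
    rw [show c * x = g * x * g⁻¹ by rw [hc]; group, ← MulAut.conj_apply, ← map_pow, ← hn', pow_orderOf_eq_one, map_one]
  rw [hxcomm.mul_pow, show x ^ u ^ n' = 1 by rw [← hn', pow_orderOf_eq_one], mul_one] at h4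
  have h5 := orderOf_dvd_of_pow_eq_one h4
  rw [hi] at h5
  have hc1 : c = 1 := orderOf_eq_one_iff.mp
    (hi ▸ Nat.eq_one_of_dvd_coprimes (Nat.coprime_pow_primes i n' hv hu huv.symm) dvd_rfl h5)
  exact mul_inv_eq_iff_eq_mul.mp (mul_inv_eq_one.mp (hc ▸ hc1))

/-! ### The subgroup generated by those `v`-elements -/

/-- Generated by the `v`-elements centralising the foreign cores. -/
def vPart (v : ℕ) (K : Subgroup G) : Subgroup G :=
  closure {g : G | g ∈ K ∧ (∃ n, orderOf g = v ^ n) ∧ ∀ r : ℕ, r.Prime → r ≠ v → g ∈ centralizer (O r K : Set G)}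

theorem vPart_le {v : ℕ} {K : Subgroup G} : vPart v K ≤ K := (closure_le _).mpr fun _ hg => hg.1

theorem normalizer_vPart {v : ℕ} {B K : Subgroup G} (hB : B ≤ normalizer (K : Set G)) :
    B ≤ normalizer (vPart v K : Set G) := by
  refine le_normalizer_of_conj fun b hb z hz => ?_
  have h1 : vPart v K ≤ (vPart v K).comap (MulAut.conj b).toMonoidHom := by
    refine (closure_le _).mpr fun g hg => subset_closure ⟨(mem_normalizer_iff.mp (hB hb) g).mp hg.1, ?_, ?_⟩
    · obtain ⟨n, hn⟩ := hg.2.1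
      exact ⟨n, (MulEquiv.orderOf_eq (MulAut.conj b) g).trans hn⟩
    · exact fun r hr hrv =>
        (mem_normalizer_iff.mp (le_normalizer_centralizer' (O_char (q := r) hB) hb) g).mp (hg.2.2 r hr hrv)
  exact h1 hz

theorem vPart_mem (h : Ctx p A θ) {v : ℕ} {K : Subgroup G} (hK : Mem p A θ K) : Mem p A θ (vPart v K) :=
  mem_of_le h hK vPart_le (normalizer_vPart (mem_normalizes hK))

theorem le_vPart {v : ℕ} [Fact v.Prime] {X K : Subgroup G} (hX : IsPGroup v X) (hXK : X ≤ K)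
    (hc : ∀ r : ℕ, r.Prime → r ≠ v → X ≤ centralizer (O r K : Set G)) : X ≤ vPart v K := by
  intro x hx
  obtain ⟨n, hn⟩ := IsPGroup.iff_orderOf.mp hX ⟨x, hx⟩
  exact subset_closure ⟨hXK hx, ⟨n, by rwa [Subgroup.orderOf_mk] at hn⟩, fun r hr hrv => hc r hr hrv hx⟩

/-- A `v`-subgroup centralising the foreign cores and normalised by `vPart` lies in the core. -/
theorem le_O_of_vPart {v : ℕ} [Fact v.Prime] {X K : Subgroup G} (hX : IsPGroup v X) (hXK : X ≤ K)
    (hc : ∀ r : ℕ, r.Prime → r ≠ v → X ≤ centralizer (O r K : Set G))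
    (hn : vPart v K ≤ normalizer (X : Set G)) : X ≤ O v K :=
  (le_O (le_vPart hX hXK hc) hX hn).trans (le_O (O_le.trans vPart_le) O_isPGroup
    (O_char (normalizer_vPart le_normalizer)))

/-- If a `c`-core of `L` centralises the `v`-core of `K`, then `vPart v K ≤ L`. -/
theorem vPart_le_of_core (h : Ctx p A θ) {v c : ℕ} (hv : v.Prime) (hc : c.Prime) (hcv : c ≠ v) {K L : Subgroup G}
    (hK : MM p A θ K) (hL : MM p A θ L) (hO : O c L ≠ ⊥) (hle : O c L ≤ K)
    (hcent : O c L ≤ centralizer (O v K : Set G)) : vPart v K ≤ L := by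
  haveI := Fact.mk hc
  refine le_of_normalizes_O h hL hO (vPart_mem h hK.1) ((le_centralizer_symm ?_).trans (centralizer_le_normalizer' _))
  intro x hx
  obtain ⟨n, hn⟩ := IsPGroup.iff_orderOf.mp (O_isPGroup (q := c) (K := L)) ⟨x, hx⟩
  rw [Subgroup.orderOf_mk] at hn
  refine mem_centralizer_iff.mpr fun g hg => ?_
  have hsub : vPart v K ≤ centralizer ({x} : Set G) := (closure_le _).mpr fun g' hg' =>
    mem_centralizer_singleton_iff.mpr
      (stab h hK.1 hv hc hcv hg'.1 hg'.2.1 hg'.2.2 (hle hx) ⟨n, hn⟩ (hcent hx))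
  exact mem_centralizer_singleton_iff.mp (hsub hg)

/-- In a `q`-group a subgroup containing its normaliser is everything. -/
theorem eq_of_normalizer_inf_le {q : ℕ} [Fact q.Prime] {P H : Subgroup G} (hP : IsPGroup q P) (hHP : H ≤ P)
    (hn : normalizer (H : Set G) ⊓ P ≤ H) : H = P := by
  haveI := hP.isNilpotent
  by_contra hne
  have hlt : H.subgroupOf P < ⊤ := lt_top_iff_ne_top.mpr fun e =>
    hne (le_antisymm hHP (Subgroup.subgroupOf_eq_top.mp e))
  obtain ⟨x, hx, hxH⟩ := SetLike.exists_of_lt (Group.normalizerCondition_of_isNilpotent _ hlt)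
  refine hxH (hn ⟨mem_normalizer_iff.mpr fun z => ?_, x.2⟩)
  constructor
  · intro hz
    exact (mem_normalizer_iff.mp hx ⟨z, hHP hz⟩).mp hz
  · intro hz
    have hzP : z ∈ P := by
      have h1 := mul_mem (mul_mem (inv_mem x.2) (hHP hz)) x.2
      simpa [mul_assoc] using h1
    exact (mem_normalizer_iff.mp hx ⟨z, hzP⟩).mpr hz

end CfsgLib.SolvSF.Multi
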