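import Cfsg.Agent.Lib.SolvSF.Multi.Unique

/-! All but one of the `M v` have the same single core. -/

set_option autoImplicit false
set_option linter.unusedSectionVars false
set_option linter.style.haveILetI false

namespace CfsgLib.SolvSF.Multi

open Cfsg Subgroup CfsgLib.Signalizer

universe u
variable {G : Type u} [Group G] [Finite G] {p : ℕ} [Fact p.Prime] {A : Subgroup G} {θ : G → Subgroup G}

/-- A third prime exists. -/
def Three (A : Subgroup G) (θ : G → Subgroup G) : Prop :=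
  ∀ a b : ℕ, ∃ v, Pr A θ v ∧ v ≠ a ∧ v ≠ b

theorem caseA (h : Ctx p A θ) {M : ℕ → Subgroup G} (hf : Fam p A θ M) (h3 : Three A θ) {q : ℕ} (hq : Pr A θ q)
    (hs : ∀ v, Pr A θ v → v ≠ q → ∀ r : ℕ, r.Prime → r ≠ q → O r (M v) = ⊥) : False := by
  haveI := Fact.mk hq.1
  have hne : ∀ v, Pr A θ v → v ≠ q → O q (M v) ≠ ⊥ := fun v hv hvq => single_ne_bot h (hf.mm v hv) (hs v hv hvq)
  have hO : ∀ v, Pr A θ v → v ≠ q → O q (M v) ≤ W p A θ q := fun v hv _ => O_le_W h (hf.mm v hv)
  -- every maximal member over `W q` has the single core `O_q`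
  have hG : ∀ K, MM p A θ K → W p A θ q ≤ K → ∀ t : ℕ, t.Prime → t ≠ q → O t K = ⊥ := by
    intro K hK hWK t ht htq
    obtain ⟨v, hv, hvt, hvq⟩ := h3 t q
    exact single_bot h hq.1 ht htq.symm (hf.mm v hv) (hs v hv hvq) (O_le_M h hf ht hv hvt.symm hK)
      (O_comm ht hq.1 htq (O_le_M h hf ht hv hvt.symm hK) ((hO v hv hvq).trans hWK))
  obtain ⟨v₀, hv₀, hv₀q, -⟩ := h3 q q
  have hWne : W p A θ q ≠ ⊥ := W_ne_bot h (hf.mm v₀ hv₀) (hne v₀ hv₀ hv₀q)
  have hall : ∀ K, MM p A θ K → W p A θ q ≤ K → O q K ≠ ⊥ := fun K hK hWK => single_ne_bot h hK (hG K hK hWK)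
  set Z := ZOm q (W p A θ q)
  have hZT : Z ≤ T0 p A θ q := le_inf (ZOm_le.trans inf_le_left)
    (le_iInf fun K => ZOm_W_le_O h K.2.1 (hall _ K.2.1 K.2.2) (hG _ K.2.1 K.2.2))
  have hT : T0 p A θ q ≠ ⊥ := fun e => ZOm_ne_bot (W_isPGroup h) hWne (le_bot_iff.mp (e ▸ hZT))
  have hTE : ∀ v, Pr A θ v → v ≠ q → T0 p A θ q ≤ O q (M v) := fun v hv hvq =>
    inf_le_right.trans (iInf_le (fun K : {K : Subgroup G // MM p A θ K ∧ W p A θ q ≤ K} => O q (K : Subgroup G))
      ⟨M v, hf.mm v hv, hf.le v hv q hq.1 hvq.symm⟩)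
  have hTq : IsPGroup q (T0 p A θ q) := (W_isPGroup h).to_le inf_le_left
  have hTqual : Qual p A θ q (T0 p A θ q) := qual_of h hq.1 (T0_mem h) hTq fun K hK t ht htq => by
    obtain ⟨v, hv, hvt, hvq⟩ := h3 t q
    exact ⟨O q (M v), hTE v hv hvq, O_isPGroup, (O_le_M h hf ht hv hvt.symm hK).trans O_normal⟩
  have hE2 : ∀ K, MM p A θ K → O q K ≠ ⊥ → ∀ t : ℕ, t.Prime → t ≠ q →
      T0 p A θ q ⊓ K ≤ centralizer (O t K : Set G) := by
    intro K hK _ t ht htq
    haveI := Fact.mk ht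
    obtain ⟨v, hv, hvt, hvq⟩ := h3 t q
    refine le_trans (inf_le_inf_right K (hTE v hv hvq)) (commute_of_normalize ?_ (inf_le_right.trans O_normal)
      (le_normalizer_inf_self ((O_le_M h hf ht hv hvt.symm hK).trans O_normal) O_le))
    exact Nat.Coprime.coprime_dvd_left (Subgroup.card_dvd_of_le inf_le_left) (O_coprime htq.symm)
  have hZ : ∀ K, MM p A θ K → O q K = ⊥ → ¬ Z ≤ K := fun K hK hKq hle =>
    ZOm_ne_bot (W_isPGroup h) hWne (le_bot_iff.mp ((le_inf hZT hle).trans (hTqual.2 K hK hKq).le))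
  have hE : EngineHyp p A θ q := engineHyp_of h hWne hall hT hE2 hTqual.2 hZ
  -- a member with the single core `O_q` is impossible
  have hsingle : ∀ L, MM p A θ L → (∀ r : ℕ, r.Prime → r ≠ q → O r L = ⊥) →
      (∀ t : ℕ, t.Prime → t ≠ q → W p A θ t ≤ L) → False := by
    intro L hL hsL hWL
    refine engine h hE (qual_of h hq.1 (O_mem h hL.1) O_isPGroup fun K hK t ht htq => ?_)
      (fun H hH => multi_of_single h hL hsL hH)
    haveI := Fact.mk ht
    exact ⟨O q L, le_rfl, O_isPGroup, ((O_le_W h hK).trans (hWL t ht htq)).trans O_normal⟩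
  by_cases h4 : ∀ t : ℕ, t.Prime → ∃ v w, Pr A θ v ∧ Pr A θ w ∧ v ≠ w ∧ v ≠ q ∧ w ≠ q ∧ v ≠ t ∧ w ≠ t
  · -- four primes
    refine noTop h ?_
    obtain ⟨U, hU, -, hUn⟩ := exists_MM_normalizer h (T0_mem h) hT (dd_normalizes_T0 h)
    refine ⟨U, hU, fun t ht => ?_⟩
    haveI := Fact.mk ht
    refine hUn _ (W_mem h) ?_
    obtain ⟨v, w, hv, hw, hvw, hvq, hwq, hvt, hwt⟩ := h4 t ht
    set J := O q (M v) ⊓ O q (M w)
    have hJn : W p A θ t ≤ normalizer (J : Set G) :=
      le_normalizer_inf ((hf.le v hv t ht hvt.symm).trans O_normal) ((hf.le w hw t ht hwt.symm).trans O_normal)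
    have hJm : Mem p A θ J := mem_of_le h (O_mem h (hf.mm v hv).1) inf_le_left
      (le_normalizer_inf (O_A h (hf.mm v hv)) (O_A h (hf.mm w hw)))
    have hJq : Qual p A θ q J := qual_of h hq.1 hJm (O_isPGroup.to_le inf_le_left) fun K hK r hr hrq => by
      haveI := Fact.mk hr
      by_cases hrv : r = v
      · exact ⟨O q (M w), inf_le_right, O_isPGroup, (O_le_M h hf hr hw (hrv ▸ hvw) hK).trans O_normal⟩
      · exact ⟨O q (M v), inf_le_left, O_isPGroup, (O_le_M h hf hr hv hrv hK).trans O_normal⟩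
    by_cases hm : Multi p A J
    · exact (engine h hE hJq hm).elim
    · simp only [Multi, not_forall, not_not, exists_prop] at hm
      obtain ⟨R, hR, hJR⟩ := hm
      exact single_normalizes h hE hR (le_inf (hTE v hv hvq) (hTE w hw hwq)) hJR (W_mem h) hJn
  · -- three primes
    push Not at h4
    obtain ⟨t, ht, ht'⟩ := h4
    obtain ⟨v, hv, hvt, hvq⟩ := h3 t q
    obtain ⟨w, hw, hwv, hwq⟩ := h3 v q
    have honly : ∀ r, Pr A θ r → r = q ∨ r = v ∨ r = w := by
      intro r hr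
      by_cases hrq : r = q
      · exact Or.inl hrq
      by_cases hrv : r = v
      · exact Or.inr (Or.inl hrv)
      refine Or.inr (Or.inr ?_)
      have e1 : r = t := ht' v r hv hr (Ne.symm hrv) hvq hrq hvt
      have e2 : w = t := ht' v w hv hw hwv.symm hvq hwq hvt
      rw [e1, e2]
    have hQ := hf.mm q hq
    have hWQ : ∀ r : ℕ, r.Prime → r ≠ q → W p A θ r ≤ M q := hf.le q hq
    by_cases hqq : O q (M q) = ⊥
    · -- `q` is no prime of `M q`
      have build : ∀ v w, Pr A θ v → Pr A θ w → v ≠ w → v ≠ q → w ≠ q → (∀ r, Pr A θ r → r = q ∨ r = v ∨ r = w) →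
          ∃ L, MM p A θ L ∧ (∀ r : ℕ, r.Prime → O r (M q) ≤ L) ∧ O q L ≠ ⊥ ∧ O q (M w) ≤ L ∧ W p A θ v ≤ L := by
        intro v w hv hw hvw hvq hwq honly
        haveI := Fact.mk hv.1
        haveI := Fact.mk hw.1
        set Φ := O q (M w) ⊔ O w (M q)
        have hΦv : Φ ≤ M v := sup_le (O_le_M h hf hq.1 hv hvq.symm (hf.mm w hw)) (O_le_M h hf hw.1 hv hvw.symm hQ)
        have hΦm : Mem p A θ Φ := mem_of_le h (hf.mm v hv).1 hΦv (le_normalizer_sup (O_A h (hf.mm w hw)) (O_A h hQ))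
        have hΦ1 : Φ ≠ ⊥ := fun e => hne w hw hwq (le_bot_iff.mp (e ▸ le_sup_left))
        obtain ⟨L, hL, hΦL, hLn⟩ := exists_MM_normalizer h hΦm hΦ1 (le_normalizer_sup (O_D (hf.mm w hw)) (O_D hQ))
        have hWv : W p A θ v ≤ L := hLn _ (W_mem h) (le_normalizer_sup ((hf.le w hw v hv.1 hvw).trans O_normal)
          ((hWQ v hv.1 hvq).trans O_normal))
        refine ⟨L, hL, fun r hr => ?_, ?_, le_sup_left.trans hΦL, hWv⟩
        · haveI := Fact.mk hr
          by_cases hO' : O r (M q) = ⊥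
          · rw [hO']; exact bot_le
          rcases honly r (pr_of_O h hr hQ hO') with e | e | e
          · exact absurd (e ▸ hqq) hO'
          · subst e; exact (O_le_W h hQ).trans hWv
          · subst e; exact le_sup_right.trans hΦL
        · intro hLq
          exact hZ L hL hLq ((ZOm_W_le_O h (hf.mm w hw) (hne w hw hwq) (hs w hw hwq)).trans (le_sup_left.trans hΦL))
      obtain ⟨L, hL, hLM, hLq, hEw, hWv⟩ := build v w hv hw hwv.symm hvq hwq honly
      obtain ⟨L', hL', hLM', hLq', hEv, hWw⟩ := build w v hw hv hwv hwq hvq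
        (fun r hr => (honly r hr).imp_right Or.symm)
      obtain rfl := unique h hQ hqq hWQ hL hL' hLM hLM' hLq hLq'
      refine hsingle L hL (fun r hr hrq => ?_) (fun r hr hrq => ?_)
      · by_contra hO'
        rcases honly r (pr_of_O h hr hL hO') with e | e | e
        · exact hrq e
        · subst e
          exact hO' (single_bot h hq.1 hr hrq.symm (hf.mm w hw) (hs w hw hwq) (O_le_M h hf hr hw hwv.symm hL)
            (O_comm hr hq.1 hrq (O_le_M h hf hr hw hwv.symm hL) hEw))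
        · subst e
          exact hO' (single_bot h hq.1 hr hrq.symm (hf.mm v hv) (hs v hv hvq) (O_le_M h hf hr hv hwv hL)
            (O_comm hr hq.1 hrq (O_le_M h hf hr hv hwv hL) hEv))
      · haveI := Fact.mk hr
        by_cases hPr : Pr A θ r
        · rcases honly r hPr with e | e | e
          · exact absurd e hrq
          · exact e ▸ hWv
          · exact e ▸ hWw
        · rw [W_eq_bot_of_not_pr h hPr]; exact bot_le
    · -- `M q` has a `q`-core, so no other
      refine hsingle (M q) hQ (fun r hr hrq => ?_) hWQ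
      by_contra hO'
      haveI := Fact.mk hr
      obtain ⟨u, hu, hur, huq⟩ := h3 r q
      exact hO' (single_bot h hq.1 hr hrq.symm (hf.mm u hu) (hs u hu huq) (O_le_M h hf hr hu hur.symm hQ)
        (core_centralizes h hrq.symm hQ (hf.mm u hu) hqq (O_le_M h hf hq.1 hu huq.symm hQ)
          (O_le_M h hf hr hu hur.symm hQ)))

end CfsgLib.SolvSF.Multi
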