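import Cfsg.Agent.Lib.SolvSF.Multi.SelfPrime
import Cfsg.Agent.Lib.Solvable.Wielandt3

/-! No `M v` has a `v`-core: the three-cycle. -/

set_option autoImplicit false
set_option linter.unusedSectionVars false
set_option linter.style.haveILetI false

namespace CfsgLib.SolvSF.Multi

open Cfsg Subgroup CfsgLib.Signalizer
open scoped commutatorElement

universe u
variable {G : Type u} [Group G] [Finite G] {p : ℕ} [Fact p.Prime] {A : Subgroup G} {θ : G → Subgroup G}

/-- A maximal member attached to the prime `q`. -/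
theorem exists_L (h : Ctx p A θ) {M : ℕ → Subgroup G} (hf : Fam p A θ M) (h3 : Three A θ) {q : ℕ} (hq : Pr A θ q) :
    ∃ L, MM p A θ L ∧ W p A θ q ≤ L ∧ ∀ a, Pr A θ a → a ≠ q → ∀ t : ℕ, t.Prime → O t (M a) ≤ L := by
  haveI := Fact.mk hq.1
  set H : Subgroup G := ⨆ i : {x : ℕ × ℕ // Pr A θ x.1 ∧ x.1 ≠ q ∧ x.2.Prime ∧ x.2 ≠ q}, O i.1.2 (M i.1.1)
  have hle : H ≤ M q := iSup_le fun i => O_le_M h hf i.2.2.2.1 hq i.2.2.2.2 (hf.mm _ i.2.1)
  have hnorm : ∀ B : Subgroup G, (∀ a, Pr A θ a → a ≠ q → ∀ t : ℕ, t.Prime → t ≠ q → B ≤ normalizer (O t (M a) : Set G)) →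
      B ≤ normalizer (H : Set G) := by
    intro B hB
    refine le_normalizer_of_conj fun b hb z hz => ?_
    have h1 : H ≤ H.comap (MulAut.conj b).toMonoidHom := iSup_le fun i x hx =>
      le_iSup (fun i : {x : ℕ × ℕ // Pr A θ x.1 ∧ x.1 ≠ q ∧ x.2.Prime ∧ x.2 ≠ q} => O i.1.2 (M i.1.1)) i
        ((mem_normalizer_iff.mp (hB _ i.2.1 i.2.2.1 _ i.2.2.2.1 i.2.2.2.2 hb) x).mp hx)
    exact h1 hz
  have hH1 : H ≠ ⊥ := by
    intro e
    refine caseA h hf h3 hq fun v hv hvq r hr hrq => le_bot_iff.mp (e ▸ ?_)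
    exact le_iSup (fun i : {x : ℕ × ℕ // Pr A θ x.1 ∧ x.1 ≠ q ∧ x.2.Prime ∧ x.2 ≠ q} => O i.1.2 (M i.1.1))
      ⟨(v, r), hv, hvq, hr, hrq⟩
  obtain ⟨L, hL, hHL, hLn⟩ := exists_MM_normalizer h
    (mem_of_le h (hf.mm q hq).1 hle (hnorm _ fun a ha _ t _ _ => O_A h (hf.mm a ha))) hH1
    (hnorm _ fun a ha _ t _ _ => O_D (hf.mm a ha))
  have hW : W p A θ q ≤ L :=
    hLn _ (W_mem h) (hnorm _ fun a ha haq t _ _ => (hf.le a ha q hq.1 haq.symm).trans O_normal)
  refine ⟨L, hL, hW, fun a ha haq t ht => ?_⟩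
  by_cases htq : t = q
  · subst htq
    exact (O_le_W h (hf.mm a ha)).trans hW
  · exact (le_iSup (fun i : {x : ℕ × ℕ // Pr A θ x.1 ∧ x.1 ≠ q ∧ x.2.Prime ∧ x.2 ≠ q} => O i.1.2 (M i.1.1))
      ⟨(a, t), ha, haq, ht, htq⟩).trans hHL

/-- If every prime other than `q` is a prime of `L`, we are done. -/
theorem some_missing (h : Ctx p A θ) {M : ℕ → Subgroup G} (hf : Fam p A θ M) (h3 : Three A θ) {q : ℕ} (hq : Pr A θ q)
    {L : Subgroup G} (hL : MM p A θ L) (hWL : W p A θ q ≤ L)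
    (hFL : ∀ a, Pr A θ a → a ≠ q → ∀ t : ℕ, t.Prime → O t (M a) ≤ L) :
    ∃ a, Pr A θ a ∧ a ≠ q ∧ O a L = ⊥ := by
  by_contra hno
  push Not at hno
  haveI := Fact.mk hq.1
  have hQ := hf.mm q hq
  have hqq := self h hf h3 hq
  have hFq : ∀ t : ℕ, t.Prime → O t (M q) ≤ L := by
    intro t ht
    haveI := Fact.mk ht
    by_cases hO' : O t (M q) = ⊥
    · rw [hO']; exact bot_le
    have htq : t ≠ q := fun e => hO' (e ▸ hqq)
    have hPt := pr_of_O h ht hQ hO'
    obtain ⟨a, ha, hat, haq⟩ := h3 t q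
    haveI := Fact.mk ha.1
    exact le_of_normalizes_O h hL (hno a ha haq) (O_mem h hQ.1)
      ((le_centralizer_symm (core_centralizes h hat.symm hL hQ (hno t hPt htq) (O_le_M h hf ht hq htq hL)
        (O_le_M h hf ha.1 hq haq hL))).trans (centralizer_le_normalizer' _))
  by_cases hqL : O q L = ⊥
  · -- then `L = M q` is a top
    have hLQ : ∀ t : ℕ, t.Prime → O t L ≤ M q := fun t ht => by
      by_cases htq : t = q
      · rw [htq, hqL]; exact bot_le
      · exact O_le_M h hf ht hq htq hL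
    obtain ⟨a, ha, haq, -⟩ := h3 q q
    obtain ⟨b, hb, hba, hbq⟩ := h3 a q
    have e := eq_of_cores h hL hQ hLQ hFq ha.1 hb.1 hba.symm (hno a ha haq) (hno b hb hbq)
    refine noTop h ⟨M q, hQ, fun r hr => ?_⟩
    by_cases hrq : r = q
    · rw [hrq, ← e]; exact hWL
    · exact hf.le q hq r hr hrq
  have hall : ∀ a, Pr A θ a → O a L ≠ ⊥ := fun a ha => by
    by_cases e : a = q
    · exact e ▸ hqL
    · exact hno a ha e
  have hF : ∀ v, Pr A θ v → ∀ t : ℕ, t.Prime → O t (M v) ≤ L := fun v hv t ht => by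
    by_cases e : v = q
    · exact e ▸ hFq t ht
    · exact hFL v hv e t ht
  have hcomm : ∀ a v t : ℕ, a.Prime → Pr A θ v → t.Prime → t ≠ a → v ≠ a →
      O a L ≤ centralizer (O t (M v) : Set G) := fun a v t ha hv ht hta hva =>
    O_comm ha ht hta.symm (O_le_M h hf ha hv hva.symm hL) (hF v hv t ht)
  refine noTop h ⟨L, hL, fun a ha' => ?_⟩
  haveI := Fact.mk ha'
  by_cases hPa : Pr A θ a
  swap
  · rw [W_eq_bot_of_not_pr h hPa]; exact bot_le
  have hup : ∀ v, Pr A θ v → v ≠ a → O a L ≤ O a (M v) := by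
    intro v hv hva
    refine le_O_of_vPart O_isPGroup (O_le_M h hf hPa.1 hv hva.symm hL) (fun r hr hra => hcomm a v r hPa.1 hv hr hra hva) ?_
    obtain ⟨c, hc, hca, hcv⟩ := h3 a v
    exact (vPart_le_of_core h hPa.1 hc.1 hca (hf.mm v hv) hL (hall c hc) (O_le_M h hf hc.1 hv hcv hL)
      (hcomm c v a hc.1 hv hPa.1 hca.symm hcv.symm)).trans O_normal
  let 𝒱 : Set ℕ := {v | Pr A θ v ∧ v ≠ a}
  set J : Subgroup G := ⨅ v : 𝒱, O a (M (v : ℕ)) with hJ
  have hJle : ∀ v ∈ 𝒱, J ≤ O a (M v) := fun v hv => iInf_le (fun v : 𝒱 => O a (M (v : ℕ))) ⟨v, hv⟩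
  obtain ⟨v₀, hv₀, hv₀a, -⟩ := h3 a a
  have hJn : ∀ B : Subgroup G, (∀ v ∈ 𝒱, B ≤ normalizer (O a (M v) : Set G)) → B ≤ normalizer (J : Set G) := by
    intro B hB
    refine le_normalizer_of_conj fun b hb x hx => ?_
    rw [hJ, Subgroup.mem_iInf] at hx ⊢
    exact fun w => (mem_normalizer_iff.mp (hB w w.2 hb) x).mp (hx w)
  have hJc : ∀ c : ℕ, c.Prime → c ≠ a → J ≤ centralizer (O c L : Set G) := by
    intro c hc hca
    obtain ⟨v, hv, hva, hvc⟩ := h3 a c
    exact (hJle v ⟨hv, hva⟩).trans (le_centralizer_symm (hcomm c v a hc hv hPa.1 hca.symm hvc))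
  have hJn' : vPart a L ≤ normalizer (J : Set G) := hJn _ fun v hv => by
    obtain ⟨t, ht, hta, htne⟩ : ∃ t, t.Prime ∧ t ≠ a ∧ O t (M v) ≠ ⊥ := by
      by_contra hnt
      push Not at hnt
      obtain ⟨c, hc, hca, hcv⟩ := h3 a v
      exact hall c hc (single_bot h hPa.1 hc.1 hca.symm (hf.mm v hv.1) hnt (O_le_M h hf hc.1 hv.1 hcv hL)
        (hcomm c v a hc.1 hv.1 hPa.1 hca.symm hcv.symm))
    exact (vPart_le_of_core h hPa.1 ht hta hL (hf.mm v hv.1) htne (hF v hv.1 t ht)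
      (le_centralizer_symm (hcomm a v t hPa.1 hv.1 ht hta hv.2))).trans O_normal
  have hJL : J = O a L := le_antisymm
    (le_O_of_vPart (O_isPGroup.to_le (hJle v₀ ⟨hv₀, hv₀a⟩)) ((hJle v₀ ⟨hv₀, hv₀a⟩).trans (hF v₀ hv₀ a hPa.1)) hJc hJn')
    (le_iInf fun v => hup v v.2.1 v.2.2)
  refine le_of_normalizes_O h hL (hall a hPa) (W_mem h) ?_
  rw [← hJL]
  exact hJn _ fun v hv => (hf.le v hv.1 a hPa.1 hv.2.symm).trans O_normal

theorem cycle (h : Ctx p A θ) {M : ℕ → Subgroup G} (hf : Fam p A θ M) (h3 : Three A θ) : False := by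
  classical
  choose L hL hWL hFL using fun (q : ℕ) (hq : Pr A θ q) => exists_L h hf h3 hq
  choose φ hφ hφne hφbot using fun (q : ℕ) (hq : Pr A θ q) =>
    some_missing h hf h3 hq (hL q hq) (hWL q hq) (hFL q hq)
  -- two members with the same single core
  have htwo : ∀ a b s : ℕ, Pr A θ a → Pr A θ b → a ≠ b → Pr A θ s →
      (∀ r : ℕ, r.Prime → r ≠ s → O r (M a) = ⊥) → (∀ r : ℕ, r.Prime → r ≠ s → O r (M b) = ⊥) → False := by
    intro a b s ha hb hab hs ha1 hb1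
    refine caseA h hf h3 hs fun v hv hvs u hu hus => ?_
    by_contra hO'
    obtain ⟨c, hc, hc1, huc⟩ : ∃ c, Pr A θ c ∧ (∀ r : ℕ, r.Prime → r ≠ s → O r (M c) = ⊥) ∧ u ≠ c := by
      by_cases hua : u = a
      · exact ⟨b, hb, hb1, hua ▸ hab⟩
      · exact ⟨a, ha, ha1, hua⟩
    by_cases hvc : v = c
    · exact hO' (hvc ▸ hc1 u hu hus)
    · exact hO' (single_bot h hs.1 hu hus.symm (hf.mm c hc) hc1 (O_le_M h hf hu hc huc (hf.mm v hv))
        (star h hf hv hc hvc hu hs.1 huc hus.symm (fun e => absurd e hvs.symm)))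
  -- mutual inclusion
  have hmut : ∀ q (hq : Pr A θ q) a, Pr A θ a → a ≠ q → O a (L q hq) = ⊥ →
      (∀ r : ℕ, r.Prime → O r (M a) ≤ L q hq) ∧ (∀ r : ℕ, r.Prime → O r (L q hq) ≤ M a) := by
    intro q hq a ha haq hbot
    refine ⟨hFL q hq a ha haq, fun r hr => ?_⟩
    by_cases hra : r = a
    · rw [hra, hbot]; exact bot_le
    · exact O_le_M h hf hr ha hra (hL q hq)
  -- the other primes are primes of `L q`
  have hin : ∀ q (hq : Pr A θ q) x, Pr A θ x → x ≠ q → x ≠ φ q hq → O x (L q hq) ≠ ⊥ := by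
    intro q hq x hx hxq hxa hbot
    set a := φ q hq
    obtain ⟨hax, hxL⟩ := hmut q hq x hx hxq hbot
    obtain ⟨haL, hLa⟩ := hmut q hq a (hφ q hq) (hφne q hq) (hφbot q hq)
    obtain ⟨s, hs, hPs, hsne⟩ := exists_O_ne_bot h (hL q hq)
    by_cases hmulti : ∃ t, t.Prime ∧ t ≠ s ∧ O t (L q hq) ≠ ⊥
    · obtain ⟨t, ht, hts, htne⟩ := hmulti
      have e₁ := eq_of_cores h (hL q hq) (hf.mm a (hφ q hq)) hLa haL hs ht hts.symm hsne htne
      have e₂ := eq_of_cores h (hL q hq) (hf.mm x hx) hxL hax hs ht hts.symm hsne htne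
      refine noTop h ⟨M a, hf.mm a (hφ q hq), fun r hr => ?_⟩
      by_cases hra : r = a
      · rw [← e₁, e₂, hra]; exact hf.le x hx a (hφ q hq).1 hxa.symm
      · exact hf.le a (hφ q hq) r hr hra
    · push Not at hmulti
      exact htwo a x s (hφ q hq) hx hxa.symm hPs
        (fun r hr hrs => (cores_primes_eq h (hL q hq) (hf.mm a (hφ q hq)) hLa haL hr).mp (hmulti r hr hrs))
        (fun r hr hrs => (cores_primes_eq h (hL q hq) (hf.mm x hx) hxL hax hr).mp (hmulti r hr hrs))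
  -- two of the `L` containing the same cores are equal
  have huniq : ∀ q (hq : Pr A θ q) a (ha : Pr A θ a) x, Pr A θ x → x ≠ q → x ≠ a → x ≠ φ q hq → x ≠ φ a ha →
      L q hq = L a ha := by
    intro q hq a ha x hx hxq hxa h1 h2
    haveI := Fact.mk hx.1
    exact unique h (hf.mm x hx) (self h hf h3 hx) (fun t ht htx => hf.le x hx t ht htx) (hL q hq) (hL a ha)
      (hFL q hq x hx hxq) (hFL a ha x hx hxa) (hin q hq x hx hxq h1) (hin a ha x hx hxa h2)
  have hno2 : ∀ q (hq : Pr A θ q) a (ha : Pr A θ a), φ q hq = a → φ a ha = q → False := by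
    intro q hq a ha e1 e2
    have hne : a ≠ q := e1 ▸ hφne q hq
    obtain ⟨x, hx, hxq, hxa⟩ := h3 q a
    have e := huniq q hq a ha x hx hxq hxa (e1.symm ▸ hxa) (e2.symm ▸ hxq)
    have b1 : O a (L q hq) = ⊥ := by
      have := hφbot q hq; rwa [e1] at this
    have b2 : O q (L a ha) = ⊥ := by
      have := hφbot a ha; rwa [e2] at this
    obtain ⟨haL, hLa⟩ := hmut q hq a ha hne b1
    obtain ⟨hqL, hLq⟩ := hmut a ha q hq hne.symm b2
    rw [← e] at hqL hLq
    obtain ⟨s, hs, hPs, hsne⟩ := exists_O_ne_bot h (hL q hq)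
    by_cases hmulti : ∃ t, t.Prime ∧ t ≠ s ∧ O t (L q hq) ≠ ⊥
    · obtain ⟨t, ht, hts, htne⟩ := hmulti
      have e₁ := eq_of_cores h (hL q hq) (hf.mm a ha) hLa haL hs ht hts.symm hsne htne
      have e₂ := eq_of_cores h (hL q hq) (hf.mm q hq) hLq hqL hs ht hts.symm hsne htne
      refine noTop h ⟨M a, hf.mm a ha, fun r hr => ?_⟩
      by_cases hra : r = a
      · rw [← e₁, e₂, hra]; exact hf.le q hq a ha.1 hne
      · exact hf.le a ha r hr hra
    · push Not at hmulti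
      exact htwo a q s ha hq hne hPs
        (fun r hr hrs => (cores_primes_eq h (hL q hq) (hf.mm a ha) hLa haL hr).mp (hmulti r hr hrs))
        (fun r hr hrs => (cores_primes_eq h (hL q hq) (hf.mm q hq) hLq hqL hr).mp (hmulti r hr hrs))
  -- choose the cycle
  obtain ⟨q, hq, -, -⟩ := h3 0 0
  set a := φ q hq with ha_def
  have ha : Pr A θ a := hφ q hq
  set x := φ a ha with hx_def
  have hx : Pr A θ x := hφ a ha
  have haq : a ≠ q := hφne q hq
  have hxa : x ≠ a := hφne a ha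
  have hxq : x ≠ q := fun e => hno2 q hq a ha rfl e
  have honly : ∀ y, Pr A θ y → y = q ∨ y = a ∨ y = x := by
    intro y hy
    by_contra hne
    push Not at hne
    have e := huniq q hq a ha y hy hne.1 hne.2.1 hne.2.1 hne.2.2
    exact hin q hq x hx hxq hxa (e ▸ hφbot a ha)
  have hφx : φ x hx = q := by
    rcases honly _ (hφ x hx) with e | e | e
    · exact e
    · exact (hno2 a ha x hx rfl e).elim
    · exact absurd e (hφne x hx)
  haveI := Fact.mk hq.1
  haveI := Fact.mk ha.1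
  haveI := Fact.mk hx.1
  set K₁ := L q hq
  set K₂ := L a ha
  set K₃ := L x hx
  set P₁ := O x K₁ with hP₁
  set P₂ := O q K₂ with hP₂
  set P₃ := O a K₃ with hP₃
  -- cores of each `K` lie in the previous one
  have hstep : ∀ q (hq : Pr A θ q) a (ha : Pr A θ a) x (_ : Pr A θ x), φ a ha = x → a ≠ q → x ≠ a → x ≠ q →
      O q (L a ha) ≠ ⊥ → (∀ y, Pr A θ y → y = q ∨ y = a ∨ y = x) → ∀ r : ℕ, r.Prime → O r (L a ha) ≤ L q hq := by
    intro q hq a ha x hx e haq hxa hxq hqK honly r hr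
    haveI := Fact.mk hr
    by_cases hO' : O r (L a ha) = ⊥
    · rw [hO']; exact bot_le
    rcases honly r (pr_of_O h hr (hL a ha) hO') with e' | e' | e'
    · subst e'; exact (O_le_W h (hL a ha)).trans (hWL r hq)
    · have b := hφbot a ha
      rw [e] at b
      obtain ⟨hxK, hKx⟩ := hmut a ha x hx hxa b
      have e₁ := eq_of_cores h (hL a ha) (hf.mm x hx) hKx hxK hq.1 hr (e' ▸ haq.symm) hqK hO'
      rw [e₁]
      exact hFL q hq x hx hxq r hr
    · have b := hφbot a ha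
      rw [e, ← e'] at b
      exact absurd b hO'
  have h1x : P₁ ≠ ⊥ := hin q hq x hx hxq hxa
  have h2q : P₂ ≠ ⊥ := hin a ha q hq haq.symm hxq.symm
  have h3a : P₃ ≠ ⊥ := hin x hx a ha hxa.symm (hφx.symm ▸ haq)
  have hc2 : ∀ r : ℕ, r.Prime → O r K₂ ≤ K₁ := hstep q hq a ha x hx rfl haq hxa hxq h2q honly
  have hc3 : ∀ r : ℕ, r.Prime → O r K₃ ≤ K₂ := hstep a ha x hx q hq hφx hxa hxq.symm haq.symm h3a
    (fun y hy => by rcases honly y hy with e | e | e <;> simp [e])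
  have hc1 : ∀ r : ℕ, r.Prime → O r K₁ ≤ K₃ := hstep x hx q hq a ha rfl hxq.symm haq hxa.symm h1x
    (fun y hy => by rcases honly y hy with e | e | e <;> simp [e])
  have h2n : P₂ ≤ normalizer (P₁ : Set G) := (hc2 q hq.1).trans O_normal
  have h3n : P₃ ≤ normalizer (P₂ : Set G) := (hc3 a ha.1).trans O_normal
  have h1n : P₁ ≤ normalizer (P₃ : Set G) := (hc1 x hx.1).trans O_normal
  have hb2 : O x K₂ = ⊥ := hφbot a ha
  have hb3 : O q K₃ = ⊥ := by have := hφbot x hx; rwa [hφx] at this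
  have hb1 : O a K₁ = ⊥ := hφbot q hq
  have hperf : ∀ {s t : ℕ} [Fact s.Prime] [Fact t.Prime] {K K' : Subgroup G}, MM p A θ K → MM p A θ K' → s ≠ t →
      (∀ r : ℕ, r.Prime → O r K' ≤ K) → O s K' = ⊥ → O t K' ≠ ⊥ → ⁅O s K, O t K'⁆ = O s K := by
    intro s t _ _ K K' hK hK' hst hcK hsK htK
    have hC : O s K ⊓ centralizer (O t K' : Set G) = ⊥ := by
      refine le_bot_iff.mp (core_inf_eq_bot h hK' hK hcK hsK ▸ le_inf inf_le_left ?_)
      exact le_of_normalizes_O h hK' htK (mem_of_le h (O_mem h hK.1) inf_le_left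
        (le_normalizer_inf (O_A h hK) (le_normalizer_centralizer' (O_A h hK'))))
        (inf_le_right.trans (centralizer_le_normalizer' _))
    have hsup := CfsgLib.coprime_commutator_sup (A := O t K') (K := O s K) ((hcK t Fact.out).trans O_normal)
      (O_coprime hst.symm) (Or.inr (O_mem h hK.1).1)
    rwa [hC, sup_bot_eq] at hsup
  have e1 : ⁅P₁, P₂⁆ = P₁ := hperf (hL q hq) (hL a ha) hxq hc2 hb2 h2q
  have e2 : ⁅P₂, P₃⁆ = P₂ := hperf (hL a ha) (hL x hx) haq.symm hc3 hb3 h3a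
  have e3 : ⁅P₃, P₁⁆ = P₃ := hperf (hL x hx) (hL q hq) hxa.symm hc1 hb1 h1x
  -- the product is a perfect solvable group
  set H := P₁ ⊔ P₂ ⊔ P₃ with hH
  have l1 : P₁ ≤ H := le_sup_left.trans le_sup_left
  have l2 : P₂ ≤ H := le_sup_right.trans le_sup_left
  have l3 : P₃ ≤ H := le_sup_right
  have hs1 : Group.IsSolvable ↥(P₁ ⊔ P₂) := isSolvable_sup' (O_mem h (hL q hq).1).1 (O_mem h (hL a ha).1).1 h2n
  have hs2 : Group.IsSolvable ↥(P₂ ⊔ P₃) := isSolvable_sup' (O_mem h (hL a ha).1).1 (O_mem h (hL x hx).1).1 h3n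
  have hs3 : Group.IsSolvable ↥(P₃ ⊔ P₁) := isSolvable_sup' (O_mem h (hL x hx).1).1 (O_mem h (hL q hq).1).1 h1n
  -- the set `P₁P₂P₃` is a subgroup
  have hcard : Nat.card H ∣ Nat.card P₁ * Nat.card P₂ * Nat.card P₃ := by
    have hswap : ∀ {X Y : Subgroup G}, Y ≤ normalizer (X : Set G) → ∀ u ∈ X, ∀ w ∈ Y,
        (∃ u' ∈ X, w * u = u' * w) ∧ ∃ u' ∈ X, u * w = w * u' := fun hYX u hu w hw =>
      ⟨⟨w * u * w⁻¹, (mem_normalizer_iff.mp (hYX hw) u).mp hu, by group⟩,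
        ⟨w⁻¹ * u * w, (mem_normalizer_iff''.mp (hYX hw) u).mp hu, by group⟩⟩
    let S : Set G := {g | ∃ u ∈ P₁, ∃ v ∈ P₂, ∃ w ∈ P₃, g = u * v * w}
    have hclosed : ∀ g ∈ S, ∀ k ∈ (P₁ : Set G) ∪ (P₂ : Set G) ∪ (P₃ : Set G), g * k ∈ S := by
      rintro g ⟨u, hu, v, hv, w, hw, rfl⟩ k ((hk | hk) | hk)
      · obtain ⟨w', hw', e⟩ := (hswap h1n w hw k hk).2
        obtain ⟨k', hk', e'⟩ := (hswap h2n k hk v hv).1
        refine ⟨u * k', mul_mem hu hk', v, hv, w', hw', ?_⟩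
        calc u * v * w * k = u * v * (w * k) := by group
          _ = u * (v * k) * w' := by rw [e]; group
          _ = _ := by rw [e']; group
      · obtain ⟨k', hk', e⟩ := (hswap h3n k hk w hw).1
        refine ⟨u, hu, v * k', mul_mem hv hk', w, hw, ?_⟩
        calc u * v * w * k = u * v * (w * k) := by group
          _ = _ := by rw [e]; group
      · exact ⟨u, hu, v, hv, w * k, mul_mem hw hk, by group⟩
    have hsub : (H : Set G) ⊆ S := by
      intro g hg
      rw [hH, Subgroup.sup_eq_closure, Subgroup.sup_eq_closure] at hg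
      have hg' : g ∈ closure ((P₁ : Set G) ∪ (P₂ : Set G) ∪ (P₃ : Set G)) := by
        refine (closure_le _).mpr ?_ hg
        rintro z (hz | hz)
        · refine (closure_le _).mpr ?_ hz
          exact fun y hy => subset_closure (Or.inl hy)
        · exact subset_closure (Or.inr hz)
      clear hg
      have key : ∀ s ∈ S, s * g ∈ S := by
        induction hg' using Subgroup.closure_induction'' with
        | mem y hy => exact fun s hs => hclosed s hs y hy
        | inv_mem y hy =>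
          refine fun s hs => hclosed s hs _ ?_
          rcases hy with (hy | hy) | hy
          · exact Or.inl (Or.inl (inv_mem hy))
          · exact Or.inl (Or.inr (inv_mem hy))
          · exact Or.inr (inv_mem hy)
        | one => simp
        | mul c d _ _ hc hd => exact fun s hs => by rw [← mul_assoc]; exact hd _ (hc s hs)
      simpa using key 1 ⟨1, one_mem _, 1, one_mem _, 1, one_mem _, by simp⟩
    have hle : Nat.card H ≤ Nat.card P₁ * Nat.card P₂ * Nat.card P₃ := by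
      rw [← Nat.card_prod, ← Nat.card_prod]
      refine Nat.card_le_card_of_surjective
        (fun z : (P₁ × P₂) × P₃ => (⟨z.1.1 * z.1.2 * z.2, mul_mem (mul_mem (l1 z.1.1.2) (l2 z.1.2.2)) (l3 z.2.2)⟩ : H))
        fun g => ?_
      obtain ⟨u, hu, v, hv, w, hw, e⟩ := hsub g.2
      exact ⟨((⟨u, hu⟩, ⟨v, hv⟩), ⟨w, hw⟩), Subtype.ext e.symm⟩
    have hge : Nat.card P₁ * Nat.card P₂ * Nat.card P₃ ∣ Nat.card H := by
      refine Nat.Coprime.mul_dvd_of_dvd_of_dvd (Nat.Coprime.mul_left (O_coprime hxa) (O_coprime haq.symm))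
        (Nat.Coprime.mul_dvd_of_dvd_of_dvd (O_coprime hxq) (card_dvd_of_le l1) (card_dvd_of_le l2)) (card_dvd_of_le l3)
    rw [le_antisymm hle (Nat.le_of_dvd Nat.card_pos hge)]
  have hindex : ∀ {X Y Z : Subgroup G}, X ⊔ Y ≤ H → (Nat.card X).Coprime (Nat.card Y) →
      Nat.card H ∣ Nat.card X * Nat.card Y * Nat.card Z → ((X ⊔ Y).subgroupOf H).index ∣ Nat.card Z := by
    intro X Y Z hXY hco hd
    have h1 := ((X ⊔ Y).subgroupOf H).index_mul_card
    rw [Nat.card_congr (Subgroup.subgroupOfEquivOfLe hXY).toEquiv] at h1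
    obtain ⟨k, hk⟩ := hco.mul_dvd_of_dvd_of_dvd (card_dvd_of_le (le_sup_left : X ≤ X ⊔ Y))
      (card_dvd_of_le (le_sup_right : Y ≤ X ⊔ Y))
    rw [← h1, hk] at hd
    refine (dvd_mul_right _ k).trans (Nat.dvd_of_mul_dvd_mul_left
      (Nat.mul_pos (Nat.card_pos (α := X)) (Nat.card_pos (α := Y))) ?_)
    calc Nat.card X * Nat.card Y * (((X ⊔ Y).subgroupOf H).index * k)
        = ((X ⊔ Y).subgroupOf H).index * (Nat.card X * Nat.card Y * k) := by ring
      _ ∣ _ := hd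
  have hsolH : Group.IsSolvable H := by
    have i1 := hindex (sup_le l1 l2) (O_coprime hxq) hcard
    have i2 := hindex (X := P₂) (Y := P₃) (Z := P₁) (sup_le l2 l3) (O_coprime haq.symm) (hcard.trans (dvd_of_eq (by ring)))
    have i3 := hindex (X := P₃) (Y := P₁) (Z := P₂) (sup_le l3 l1) (O_coprime hxa.symm) (hcard.trans (dvd_of_eq (by ring)))
    have hsol : ∀ X : Subgroup G, X ≤ H → Group.IsSolvable X → Group.IsSolvable ↥(X.subgroupOf H) := fun X hX hs =>
      Group.isSolvable_of_isSolvable_injective (f := (Subgroup.subgroupOfEquivOfLe hX).toMonoidHom)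
        (Subgroup.subgroupOfEquivOfLe hX).injective
    exact CfsgLib.Wielandt3.isSolvable _ rfl _ _ _ (hsol _ (sup_le l1 l2) hs1) (hsol _ (sup_le l2 l3) hs2)
      (hsol _ (sup_le l3 l1) hs3)
      (Nat.Coprime.of_dvd i1 i2 (O_coprime hxa.symm)) (Nat.Coprime.of_dvd i1 i3 (O_coprime haq))
      (Nat.Coprime.of_dvd i2 i3 (O_coprime hxq))
  have hHH : H ≤ ⁅H, H⁆ := sup_le (sup_le (e1 ▸ commutator_mono l1 l2) (e2 ▸ commutator_mono l2 l3))
    (e3 ▸ commutator_mono l3 l1)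
  have hH1 : H = ⊥ := by
    by_contra hne
    haveI : Nontrivial H := (Subgroup.nontrivial_iff_ne_bot H).mpr hne
    haveI := hsolH
    refine (Group.IsSolvable.commutator_lt_top_of_nontrivial H).ne ?_
    apply Subgroup.map_injective H.subtype_injective
    rw [_root_.commutator_def, Subgroup.map_commutator, ← MonoidHom.range_eq_map, Subgroup.range_subtype]
    exact le_antisymm (CfsgLib.commutator_le_of_le_normalizer le_normalizer) hHH
  exact h1x (le_bot_iff.mp (hH1 ▸ l1))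

end CfsgLib.SolvSF.Multi
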