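import Cfsg.Agent.Lib.SolvSF.Multi.CaseA

/-! No `M v` has a `v`-core. -/

set_option autoImplicit false
set_option linter.unusedSectionVars false
set_option linter.style.haveILetI false

namespace CfsgLib.SolvSF.Multi

open Cfsg Subgroup CfsgLib.Signalizer

universe u
variable {G : Type u} [Group G] [Finite G] {p : ℕ} [Fact p.Prime] {A : Subgroup G} {θ : G → Subgroup G}

/-- The statement (*). -/
theorem star (h : Ctx p A θ) {M : ℕ → Subgroup G} (hf : Fam p A θ M) {v w u s : ℕ} (hv : Pr A θ v) (hw : Pr A θ w)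
    (hvw : v ≠ w) (hu : u.Prime) (hs : s.Prime) (huw : u ≠ w) (hsu : s ≠ u) (hex : s = v → O v (M v) ≠ ⊥) :
    O u (M v) ≤ centralizer (O s (M w) : Set G) := by
  haveI := Fact.mk hu
  haveI := Fact.mk hs
  by_cases hsv : s = v
  · subst hsv
    exact core_centralizes h hsu (hf.mm s hv) (hf.mm w hw) (hex rfl) (O_le_M h hf hs hw hvw (hf.mm s hv))
      (O_le_M h hf hu hw huw (hf.mm s hv))
  · exact O_comm hu hs hsu.symm (O_le_M h hf hu hw huw (hf.mm v hv)) (O_le_M h hf hs hv hsv (hf.mm w hw))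

theorem self (h : Ctx p A θ) {M : ℕ → Subgroup G} (hf : Fam p A θ M) (h3 : Three A θ) {v : ℕ} (hv : Pr A θ v) :
    O v (M v) = ⊥ := by
  by_contra hV
  haveI := Fact.mk hv.1
  have hMv := hf.mm v hv
  -- `M v` has another prime
  obtain ⟨u, hu, hPu, huv, hUne⟩ : ∃ u, u.Prime ∧ Pr A θ u ∧ u ≠ v ∧ O u (M v) ≠ ⊥ := by
    by_contra hno
    push Not at hno
    have hsv : ∀ r : ℕ, r.Prime → r ≠ v → O r (M v) = ⊥ := fun r hr hrv => by
      by_contra hO'
      haveI := Fact.mk hr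
      exact hO' (hno r hr (pr_of_O h hr hMv hO') hrv)
    refine caseA h hf h3 hv fun w hw hwv r hr hrv => ?_
    exact single_bot h hv.1 hr hrv.symm hMv hsv (O_le_M h hf hr hv hrv (hf.mm w hw))
      (star h hf hw hv hwv hr hv.1 hrv hrv.symm (fun e => absurd e hwv.symm))
  set V := O v (M v) with hVdef
  -- the cores `O v (M w)`
  let 𝒲 : Set ℕ := {w | Pr A θ w ∧ w ≠ v ∧ ∃ t, t.Prime ∧ t ≠ v ∧ t ≠ w ∧ O t (M v) ≠ ⊥}
  obtain ⟨w₀, hw₀, hw₀v, hw₀u⟩ := h3 v u
  have hmem : w₀ ∈ 𝒲 := ⟨hw₀, hw₀v, u, hu, huv, hw₀u.symm, hUne⟩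
  have hPle : ∀ w ∈ 𝒲, O v (M w) ≤ M v := by
    rintro w ⟨hw, hwv, t, ht, htv, htw, htne⟩
    refine le_of_normalizes_O h hMv htne (O_mem h (hf.mm w hw).1)
      ((le_centralizer_symm (star h hf hv hw hwv.symm ht hv.1 htw htv.symm (fun _ => hV))).trans
        (centralizer_le_normalizer' _))
  have hVP : ∀ w ∈ 𝒲, V ≤ O v (M w) := by
    intro w hw'
    obtain ⟨hw, hwv, t, ht, htv, htw, htne⟩ := hw'
    have hVw : V ≤ M w := O_le_M h hf hv.1 hw hwv.symm hMv
    have hE : vPart v (M w) ≤ M v := vPart_le_of_core h hv.1 ht htv (hf.mm w hw) hMv htne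
      (O_le_M h hf ht hw htw hMv) (star h hf hv hw hwv.symm ht hv.1 htw htv.symm (fun _ => hV))
    exact le_O_of_vPart O_isPGroup hVw
      (fun s hs hsv => star h hf hv hw hwv.symm hv.1 hs hwv.symm hsv (fun e => absurd e hsv)) (hE.trans O_normal)
  set N : Subgroup G := ⨅ w : 𝒲, O v (M (w : ℕ)) with hN
  have hNle : ∀ w ∈ 𝒲, N ≤ O v (M w) := fun w hw => iInf_le (fun w : 𝒲 => O v (M (w : ℕ))) ⟨w, hw⟩
  have hNn : ∀ B : Subgroup G, (∀ w ∈ 𝒲, B ≤ normalizer (O v (M w) : Set G)) → B ≤ normalizer (N : Set G) := by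
    intro B hB
    refine le_normalizer_of_conj fun b hb x hx => ?_
    rw [hN, Subgroup.mem_iInf] at hx ⊢
    exact fun w => (mem_normalizer_iff.mp (hB w w.2 hb) x).mp (hx w)
  have hNv : IsPGroup v N := O_isPGroup.to_le (hNle w₀ hmem)
  have hNMv : N ≤ M v := (hNle w₀ hmem).trans (hPle w₀ hmem)
  have hNc : ∀ t : ℕ, t.Prime → t ≠ v → N ≤ centralizer (O t (M v) : Set G) := by
    intro t ht htv
    by_cases hO' : O t (M v) = ⊥
    · intro x _
      refine mem_centralizer_iff.mpr fun y hy => ?_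
      rw [hO'] at hy
      rw [Subgroup.mem_bot.mp hy, one_mul, mul_one]
    obtain ⟨w, hw, hwv, hwt⟩ := h3 v t
    have hw' : w ∈ 𝒲 := ⟨hw, hwv, t, ht, htv, hwt.symm, hO'⟩
    exact (hNle w hw').trans (le_centralizer_symm (star h hf hv hw hwv.symm ht hv.1 hwt.symm htv.symm (fun _ => hV)))
  have hEw : ∀ w ∈ 𝒲, vPart v (M v) ≤ M w := by
    intro w hw'
    obtain ⟨hw, hwv, t, ht, htv, htw, htne⟩ := hw'
    obtain ⟨s, hs, hsv, hsne⟩ : ∃ s, s.Prime ∧ s ≠ v ∧ O s (M w) ≠ ⊥ := by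
      by_contra hno
      push Not at hno
      exact htne (single_bot h hv.1 ht htv.symm (hf.mm w hw) hno (O_le_M h hf ht hw htw hMv)
        (star h hf hv hw hwv.symm ht hv.1 htw htv.symm (fun _ => hV)))
    exact vPart_le_of_core h hv.1 hs hsv hMv (hf.mm w hw) hsne (O_le_M h hf hs hv hsv (hf.mm w hw))
      (le_centralizer_symm (star h hf hv hw hwv.symm hv.1 hs hwv.symm hsv (fun e => absurd e hsv)))
  have hNV : N = V := le_antisymm
    (le_O_of_vPart hNv hNMv hNc (hNn _ fun w hw => (hEw w hw).trans O_normal))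
    (le_iInf fun w => hVP w w.2)
  refine noTop h ⟨M v, hMv, fun r hr => ?_⟩
  haveI := Fact.mk hr
  by_cases hrv : r = v
  · subst hrv
    refine le_of_normalizes_O h hMv hV (W_mem h) ?_
    rw [← hVdef, ← hNV]
    exact hNn _ fun w hw => (hf.le w hw.1 r hr hw.2.1.symm).trans O_normal
  · exact hf.le v hv r hr hrv

end CfsgLib.SolvSF.Multi
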