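import Cfsg.Agent.Lib.SolvSF.Multi.Basic

/-! The uniqueness lemma. -/

set_option autoImplicit false
set_option linter.unusedSectionVars false
set_option linter.style.haveILetI false

namespace CfsgLib.SolvSF.Multi

open Cfsg Subgroup CfsgLib.Signalizer
open scoped commutatorElement

universe u
variable {G : Type u} [Group G] [Finite G] {p : ℕ} [Fact p.Prime] {A : Subgroup G} {θ : G → Subgroup G}

/-- A `q`-member of `L` meeting `M` trivially and normalised by the cores of `M` lies in `O_q(L)`. -/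
theorem sub_core (h : Ctx p A θ) {q : ℕ} [Fact q.Prime] {M L X : Subgroup G} (hM : MM p A θ M) (hMq : O q M = ⊥)
    (hMW : ∀ t : ℕ, t.Prime → t ≠ q → W p A θ t ≤ M) (hL : MM p A θ L) (hML : ∀ r : ℕ, r.Prime → O r M ≤ L)
    (hX : Mem p A θ X) (hXL : X ≤ L) (hXq : IsPGroup q X) (hXM : X ⊓ M = ⊥)
    (hXn : ∀ r : ℕ, r.Prime → O r M ≤ normalizer (X : Set G)) : X ≤ O q L := by
  obtain ⟨s, hs, -, hsne⟩ := exists_O_ne_bot h hM
  haveI := Fact.mk hs
  have hsq : s ≠ q := fun e => hsne (e ▸ hMq)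
  set Y := O s M with hYdef
  have hYL : Y ≤ L := hML s hs
  have hEM : O q L ⊓ M = ⊥ := core_inf_eq_bot h hM hL hML hMq
  have hD : DD A θ ⊓ O q L = ⊥ := le_bot_iff.mp (hEM ▸ le_inf inf_le_right (inf_le_left.trans hM.2.1))
  -- `[e,y]` lies in `O_q(L)`
  have key : ∀ e ∈ X, ∀ y ∈ Y, e * y * e⁻¹ * y⁻¹ ∈ O q L := by
    intro e he y hy
    have hyX : y ∈ normalizer (X : Set G) := hXn s hs hy
    have hcX : e * y * e⁻¹ * y⁻¹ ∈ X := by
      rw [show e * y * e⁻¹ * y⁻¹ = e * (y * e⁻¹ * y⁻¹) by group]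
      exact mul_mem he ((mem_normalizer_iff.mp hyX _).mp (inv_mem he))
    refine le_O_of_layers h hL.1 (X := zpowers (e * y * e⁻¹ * y⁻¹)) ((zpowers_le.mpr hcX).trans hXL)
      (hXq.to_le (zpowers_le.mpr hcX)) ?_ (mem_zpowers _)
    intro t ht htq
    haveI := Fact.mk ht
    have hLay := Lay_le_sup_W h htq hL hD (t := t)
    let π := QuotientGroup.mk' (pCore q ↥L)
    have hker : ∀ z : L, π z = 1 ↔ (z : G) ∈ O q L := fun z =>
      ⟨fun hz => ⟨z, (QuotientGroup.eq_one_iff z).mp hz, rfl⟩, fun ⟨w, hw, hwz⟩ => by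
        rw [show z = w from Subtype.ext hwz.symm]; exact (QuotientGroup.eq_one_iff w).mpr hw⟩
    have hcomm : ∀ a b : L, ((a : G) * b * (a : G)⁻¹ * (b : G)⁻¹ ∈ O q L) → π a * π b = π b * π a := by
      intro a b hab
      have h1 : π (a * b * a⁻¹ * b⁻¹) = 1 := (hker _).mpr hab
      rw [map_mul, map_mul, map_mul, map_inv, map_inv, mul_inv_eq_one, mul_inv_eq_iff_eq_mul] at h1
      exact h1
    -- `X` centralises `Y ∩ Lay`
    have hfix : ∀ a : L, (a : G) ∈ X → ∀ δ : L, (δ : G) ∈ Y → (δ : G) ∈ Lay q t L → π a * π δ = π δ * π a := by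
      intro a ha δ hδY hδ
      refine hcomm a δ (Lay_sylow htq (inf_le_right : X ⊓ Lay q t L ≤ Lay q t L) (hXq.to_le inf_le_left) ⟨?_, ?_⟩)
      · rw [show (a : G) * δ * (a : G)⁻¹ * (δ : G)⁻¹ = a * (δ * (a : G)⁻¹ * (δ : G)⁻¹) by group]
        exact mul_mem ha ((mem_normalizer_iff.mp (hXn s hs hδY) _).mp (inv_mem ha))
      · exact (Lay q t L).mul_mem ((mem_normalizer_iff.mp (Lay_normal a.2) _).mp hδ) ((Lay q t L).inv_mem hδ)
    -- `Y` moves the layer into `Y ∩ Lay`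
    have hmove : ∀ a : L, (a : G) ∈ Y → ∀ z : L, (z : G) ∈ Lay q t L →
        ∃ δ : L, (δ : G) ∈ Y ∧ (δ : G) ∈ Lay q t L ∧ π a * π z * (π a)⁻¹ = π δ * π z := by
      intro a ha z hz
      obtain ⟨ε, hε, w, hw, hεw⟩ := CfsgLib.mem_sup_of_le_normalizer
        ((inf_le_right : W p A θ t ⊓ L ≤ L).trans O_normal) (hLay hz)
      have hwz : w ∈ Lay q t L := by
        rw [show w = ε⁻¹ * (z : G) by rw [← hεw]; group]
        exact mul_mem (O_le_Lay (inv_mem hε)) hz
      refine ⟨⟨(a : G) * w * (a : G)⁻¹ * w⁻¹, mul_mem (mul_mem (mul_mem a.2 hw.2) (inv_mem a.2)) (inv_mem hw.2)⟩, ?_,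
        mul_mem ((mem_normalizer_iff.mp (Lay_normal a.2) _).mp hwz) (inv_mem hwz), ?_⟩
      · show (a : G) * w * (a : G)⁻¹ * w⁻¹ ∈ Y
        rw [show (a : G) * w * (a : G)⁻¹ * w⁻¹ = a * (w * (a : G)⁻¹ * w⁻¹) by group]
        exact mul_mem ha ((mem_normalizer_iff.mp ((hMW t ht htq hw.1) |> fun hwM => O_normal (q := s) hwM) _).mp
          (inv_mem ha))
      · have hzw : π z = π ⟨w, hw.2⟩ := by
          rw [show z = (⟨ε, O_le hε⟩ : L) * ⟨w, hw.2⟩ from Subtype.ext hεw.symm, map_mul, (hker ⟨ε, O_le hε⟩).mpr hε,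
            one_mul]
        rw [hzw, ← map_inv, ← map_mul, ← map_mul, ← map_mul]
        exact congrArg π (Subtype.ext (show (a : G) * w * (a : G)⁻¹ = (a : G) * w * (a : G)⁻¹ * w⁻¹ * w by group))
    -- the commutator centralises the layer
    intro c' hc' z hz
    obtain ⟨k, rfl⟩ := hc'
    let el : L := ⟨e, hXL he⟩
    let yl : L := ⟨y, hYL hy⟩
    set cl : L := el * yl * el⁻¹ * yl⁻¹ with hcl
    have hclX : (cl : G) ∈ X := hcX
    have hcz : π cl * π ⟨z, Lay_le hz⟩ = π ⟨z, Lay_le hz⟩ * π cl := by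
      set zl : L := ⟨z, Lay_le hz⟩
      set z1 : L := yl⁻¹ * zl * yl with hz1
      have hz1L : (z1 : G) ∈ Lay q t L := by
        have := (mem_normalizer_iff.mp (Lay_normal (inv_mem yl.2)) (zl : G)).mp hz
        rw [inv_inv] at this
        exact this
      set z2 : L := el⁻¹ * z1 * el with hz2
      have hz2L : (z2 : G) ∈ Lay q t L := by
        have := (mem_normalizer_iff.mp (Lay_normal (inv_mem el.2)) (z1 : G)).mp hz1L
        rw [inv_inv] at this
        exact this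
      obtain ⟨δ₁, hδ₁Y, hδ₁L, e₁⟩ := hmove yl hy z1 hz1L
      obtain ⟨δ₂, hδ₂Y, hδ₂L, e₂⟩ := hmove yl hy z2 hz2L
      set δ : L := δ₂ * δ₁⁻¹ with hδ
      have hδY : (δ : G) ∈ Y := mul_mem hδ₂Y (inv_mem hδ₁Y)
      have hδL : (δ : G) ∈ Lay q t L := mul_mem hδ₂L (inv_mem hδ₁L)
      have f₁ : π zl = π δ₁ * π z1 := by
        rw [← e₁, hz1]; simp only [map_mul, map_inv]; group
      have f₂ : π cl * π zl * (π cl)⁻¹ = π δ * π zl := by
        have hd₂ := hfix el he δ₂ hδ₂Y hδ₂L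
        calc π cl * π zl * (π cl)⁻¹ = π el * (π yl * π z2 * (π yl)⁻¹) * (π el)⁻¹ := by
              rw [hcl, hz2, hz1]; simp only [map_mul, map_inv]; group
          _ = π el * π δ₂ * π z2 * (π el)⁻¹ := by rw [e₂]; group
          _ = π δ₂ * (π el * π z2 * (π el)⁻¹) := by rw [hd₂]; group
          _ = π δ₂ * π z1 := by rw [hz2]; simp only [map_mul, map_inv]; group
          _ = π δ * π zl := by rw [f₁, hδ]; simp only [map_mul, map_inv]; group
      have hcd : Commute (π cl) (π δ) := hfix cl hclX δ hδY hδL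
      have hiter : ∀ j : ℕ, (π cl) ^ j * π zl * ((π cl) ^ j)⁻¹ = (π δ) ^ j * π zl := by
        intro j
        induction j with
        | zero => simp
        | succ j ih =>
          calc (π cl) ^ (j + 1) * π zl * ((π cl) ^ (j + 1))⁻¹
              = π cl * ((π cl) ^ j * π zl * ((π cl) ^ j)⁻¹) * (π cl)⁻¹ := by rw [pow_succ']; group
            _ = (π cl * (π δ) ^ j) * π zl * (π cl)⁻¹ := by rw [ih]; group
            _ = (π δ) ^ j * (π cl * π zl * (π cl)⁻¹) := by rw [(hcd.pow_right j).eq]; group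
            _ = _ := by rw [f₂, pow_succ, mul_assoc]
      obtain ⟨i, hi⟩ := hXq ⟨_, hclX⟩
      have hclone : (π cl) ^ q ^ i = 1 := by
        rw [← map_pow, show cl ^ q ^ i = 1 from Subtype.ext (congrArg Subtype.val hi :), map_one]
      have hδ1 : π δ = 1 := by
        have h1 := hiter (q ^ i)
        rw [hclone, one_mul, inv_one, mul_one] at h1
        obtain ⟨i', hi'⟩ := (O_isPGroup (q := s) (K := M)) ⟨_, hδY⟩
        have h2 : (π δ) ^ s ^ i' = 1 := by
          rw [← map_pow, show δ ^ s ^ i' = 1 from Subtype.ext (congrArg Subtype.val hi' :), map_one]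
        exact orderOf_eq_one_iff.mp (Nat.eq_one_of_dvd_coprimes (Nat.coprime_pow_primes i i' Fact.out hs hsq.symm)
          (orderOf_dvd_of_pow_eq_one (mul_eq_right.mp h1.symm)) (orderOf_dvd_of_pow_eq_one h2))
      rw [hδ1, one_mul, mul_inv_eq_iff_eq_mul] at f₂
      exact f₂
    refine (hker ((cl ^ k) * ⟨z, Lay_le hz⟩ * (cl ^ k)⁻¹ * (⟨z, Lay_le hz⟩ : L)⁻¹)).mp ?_
    rw [map_mul, map_mul, map_mul, map_inv, map_inv, map_zpow, (Commute.zpow_left hcz k).eq]
    group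
  have hco : (Nat.card Y).Coprime (Nat.card X) := by
    obtain ⟨i, hi⟩ := IsPGroup.iff_card.mp (O_isPGroup (q := s) (K := M))
    obtain ⟨j, hj⟩ := IsPGroup.iff_card.mp hXq
    rw [hYdef, hi, hj]
    exact Nat.coprime_pow_primes i j hs Fact.out hsq
  have hsup := CfsgLib.coprime_commutator_sup (A := Y) (K := X) (hXn s hs) hco (Or.inr hX.1)
  have hC : X ⊓ centralizer (Y : Set G) = ⊥ := by
    refine le_bot_iff.mp (hXM ▸ le_inf inf_le_left ?_)
    exact le_of_normalizes_O h hM hsne (mem_of_le h hX inf_le_left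
      (le_normalizer_inf (mem_normalizes hX) (le_normalizer_centralizer' (O_A h hM))))
      (inf_le_right.trans (centralizer_le_normalizer' _))
  rw [hC, sup_bot_eq] at hsup
  rw [← hsup]
  exact commutator_le.mpr fun e he y hy => key e he y hy

/-- At most one maximal member with a `q`-core contains the cores of `M`. -/
theorem unique (h : Ctx p A θ) {q : ℕ} [Fact q.Prime] {M L L' : Subgroup G} (hM : MM p A θ M) (hMq : O q M = ⊥)
    (hMW : ∀ t : ℕ, t.Prime → t ≠ q → W p A θ t ≤ M) (hL : MM p A θ L) (hL' : MM p A θ L')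
    (hML : ∀ r : ℕ, r.Prime → O r M ≤ L) (hML' : ∀ r : ℕ, r.Prime → O r M ≤ L')
    (hq : O q L ≠ ⊥) (hq' : O q L' ≠ ⊥) : L = L' := by
  set Φ := O q L ⊔ O q L' with hΦ
  have hΦW : Φ ≤ W p A θ q := sup_le (O_le_W h hL) (O_le_W h hL')
  have hΦA : A ≤ normalizer (Φ : Set G) := le_normalizer_sup (O_A h hL) (O_A h hL')
  have hΦ1 : Φ ≠ ⊥ := fun e => hq (le_bot_iff.mp (e ▸ le_sup_left))
  obtain ⟨Γ, hΓ, hΦΓ, hΓn⟩ := exists_MM_normalizer h (mem_of_le h (W_mem h) hΦW hΦA) hΦ1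
    (le_normalizer_sup (O_D hL) (O_D hL'))
  have hMΓ : ∀ r : ℕ, r.Prime → O r M ≤ Γ := fun r hr =>
    hΓn _ (O_mem h hM.1) (le_normalizer_sup ((hML r hr).trans O_normal) ((hML' r hr).trans O_normal))
  have heq : ∀ K, MM p A θ K → (∀ r : ℕ, r.Prime → O r M ≤ K) → O q K ≠ ⊥ → O q K ≤ Γ → O q K = O q Γ := by
    intro K hK hMK hKq hKΓ
    have h1 : O q K ≤ O q Γ := sub_core h hM hMq hMW hΓ hMΓ (O_mem h hK.1) hKΓ O_isPGroup
      (core_inf_eq_bot h hM hK hMK hMq) (fun r hr => (hMK r hr).trans O_normal)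
    have h2 : O q Γ ⊓ K ≤ O q K := sub_core h hM hMq hMW hK hMK
      (mem_of_le h (O_mem h hΓ.1) inf_le_left (le_normalizer_inf (O_A h hΓ) (mem_normalizes hK.1)))
      inf_le_right ((O_isPGroup (K := Γ)).to_le inf_le_left)
      (le_bot_iff.mp (core_inf_eq_bot h hM hΓ hMΓ hMq ▸ inf_le_inf_right M inf_le_left))
      (fun r hr => le_normalizer_inf ((hMΓ r hr).trans O_normal) ((hMK r hr).trans le_normalizer))
    refine eq_of_normalizer_inf_le (O_isPGroup (K := Γ)) h1 (le_trans (le_inf inf_le_right ?_) h2)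
    exact le_of_normalizes_O h hK hKq (mem_of_le h (O_mem h hΓ.1) inf_le_right
      (le_normalizer_inf ((O_A h hK).trans le_normalizer) (O_A h hΓ)))
      inf_le_left
  have e : O q L = O q L' := (heq L hL hML hq (le_sup_left.trans hΦΓ)).trans
    (heq L' hL' hML' hq' (le_sup_right.trans hΦΓ)).symm
  exact (hL.2.2 L' hL'.1 (le_of_normalizes_O h hL' hq' hL.1 (by rw [← e]; exact O_normal))).symm

end CfsgLib.SolvSF.Multi
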